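import Groth.Agent.ExtGrp38.Descend

/-! Points of an exact sequence of group schemes. -/

set_option autoImplicit false
universe u

open CategoryTheory MonoidalCategory CartesianMonoidalCategory MonObj AlgebraicGeometry

namespace Groth.Agent.ExtGrp38

variable {S : Scheme.{u}} {P G E : Over S} [GrpObj P] [GrpObj G] [GrpObj E] {u : G ⟶ E} {v : E ⟶ P}
  {K : Precoverage Scheme.{u}}

theorem pt_uv (hex : NonAbH1.IsExactSeq K u v) {T : Over S} (h : T ⟶ G) : (h ≫ u) ≫ v = 1 := by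
  rw [Category.assoc, hex.2.2.1, MonObj.comp_one]

theorem ker_unique (hex : NonAbH1.IsExactSeq K u v) {T : Over S} {h h' : T ⟶ G} (e : h ≫ u = h' ≫ u) : h = h' := by
  have key : ∀ k : T ⟶ G, lift (1 : T ⟶ E) k ≫ (E ◁ u) ≫ μ[E] = k ≫ u := fun k => by
    rw [lift_whiskerLeft_assoc, ← Hom.mul_def, _root_.one_mul]
  have := hex.2.2.2.1.hom_ext (W := T) (k := lift (1 : T ⟶ E) h) (l := lift 1 h')
    (by simp) (by rw [key, key, e])
  simpa using congrArg (· ≫ snd _ _) this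

theorem ker_exists (hex : NonAbH1.IsExactSeq K u v) {T : Over S} {x y : T ⟶ E} (e : x ≫ v = y ≫ v) :
    ∃ h : T ⟶ G, y = x * (h ≫ u) := by
  let l := hex.2.2.2.1.lift x y e
  refine ⟨l ≫ snd _ _, ?_⟩
  have h1 : l ≫ fst _ _ = x := hex.2.2.2.1.lift_fst x y e
  have h2 : l ≫ (E ◁ u) ≫ μ[E] = y := hex.2.2.2.1.lift_snd x y e
  rw [← h2, ← h1]
  conv_lhs => rw [show l = lift (l ≫ fst _ _) (l ≫ snd _ _) from by ext <;> simp]
  rw [lift_whiskerLeft_assoc, Hom.mul_def]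

theorem ker_exists_one (hex : NonAbH1.IsExactSeq K u v) {T : Over S} {y : T ⟶ E} (e : y ≫ v = 1) :
    ∃ h : T ⟶ G, y = h ≫ u := by
  have := hex.2.1
  obtain ⟨h, hh⟩ := ker_exists hex (x := (1 : T ⟶ E)) (y := y) (by rw [e, MonObj.one_comp])
  exact ⟨h, by rw [hh, _root_.one_mul]⟩

theorem comp_inj (hex : NonAbH1.IsExactSeq K u v) {T : Over S} {h : T ⟶ G} : h ≫ u = 1 ↔ h = 1 := by
  have := hex.1
  exact ⟨fun e => ker_unique hex (e.trans (MonObj.one_comp u).symm), fun e => by rw [e, MonObj.one_comp]⟩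

theorem comp_comm [IsCommMonObj G] (hex : NonAbH1.IsExactSeq K u v) {T : Over S} (g h : T ⟶ G) :
    (g ≫ u) * (h ≫ u) = (h ≫ u) * (g ≫ u) := by
  have := hex.1
  rw [← MonObj.mul_comp, ← MonObj.mul_comp, _root_.mul_comm]

end Groth.Agent.ExtGrp38
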