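import Groth.Prelude.Def_NonAbH2
import Mathlib.AlgebraicGeometry.Sites.Fpqc
import Mathlib.CategoryTheory.Sites.Canonical

/-! Descent of morphisms along epimorphisms of group schemes for the fppf topology. -/

set_option autoImplicit false
universe u

open CategoryTheory MonoidalCategory CartesianMonoidalCategory MonObj AlgebraicGeometry

namespace Groth.Agent.ExtGrp38

variable {S : Scheme.{u}}

/-- Points of `P` lift to `E` on a covering sieve. -/
def Covers {E P : Over S} (w : E ⟶ P) : Prop :=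
  ∀ (T : Over S) (t : T ⟶ P), ∃ U : Sieve T.left, U ∈ Scheme.fppfTopology T.left ∧
    ∀ ⦃W : Scheme.{u}⦄ (k : W ⟶ T.left), U k →
      ∃ e : Over.mk (k ≫ T.hom) ⟶ E, e ≫ w = (Over.homMk k rfl : Over.mk (k ≫ T.hom) ⟶ T) ≫ t

theorem covers_of_locallyTrivial {E P : Over S} (v : E ⟶ P)
    (h : NonAbH1.IsLocallyTrivialFor Scheme.fppfPrecoverage (Over.mk v.left : Over P.left)) : Covers v := by
  obtain ⟨R, hR, hsec⟩ := h
  intro T t
  refine ⟨(Sieve.generate R).pullback t.left,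
    Scheme.fppfTopology.pullback_stable _ (Precoverage.generate_mem_toGrothendieck hR), fun W k hk => ?_⟩
  obtain ⟨W', a, b, hb, hab⟩ := hk
  obtain ⟨s, hs⟩ := hsec b hb
  have hs' : s ≫ v.left = b := hs
  refine ⟨Over.homMk (a ≫ s) ?_, Over.OverMorphism.ext ?_⟩
  · show (a ≫ s) ≫ E.hom = k ≫ T.hom
    rw [← Over.w v, Category.assoc, ← Category.assoc s, hs', ← Category.assoc, hab, Category.assoc, Over.w t]
  · show (a ≫ s) ≫ v.left = k ≫ t.left
    rw [Category.assoc, hs', hab]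

theorem covers_id (P : Over S) : Covers (𝟙 P) := fun _ t =>
  ⟨⊤, Scheme.fppfTopology.top_mem _, fun _ k _ => ⟨Over.homMk k rfl ≫ t, Category.comp_id _⟩⟩

theorem Covers.tensor {E P E' P' : Over S} {w : E ⟶ P} {w' : E' ⟶ P'} (h : Covers w) (h' : Covers w') :
    Covers (w ⊗ₘ w') := by
  intro T t
  obtain ⟨U, hU, hl⟩ := h T (t ≫ fst P P')
  obtain ⟨U', hU', hl'⟩ := h' T (t ≫ snd P P')
  refine ⟨U ⊓ U', Scheme.fppfTopology.intersection_covering hU hU', fun W k hk => ?_⟩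
  obtain ⟨e, he⟩ := hl k hk.1
  obtain ⟨e', he'⟩ := hl' k hk.2
  refine ⟨lift e e', ?_⟩
  ext <;> simp [he, he']

theorem hom_ext {E P : Over S} {w : E ⟶ P} (h : Covers w) {T Y : Over S} (t : T ⟶ P) {a b : T ⟶ Y}
    (hab : ∀ (Z : Over S) (g : Z ⟶ T) (e : Z ⟶ E), e ≫ w = g ≫ t → g ≫ a = g ≫ b) : a = b := by
  obtain ⟨U, hU, hl⟩ := h T t
  have hsh : Presieve.IsSheafFor (yoneda.obj Y.left) (U : Presieve T.left) :=
    GrothendieckTopology.Subcanonical.isSheaf_of_isRepresentable (J := Scheme.fppfTopology) _ _ hU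
  refine Over.OverMorphism.ext (hsh.isSeparatedFor.ext fun W k hk => ?_)
  obtain ⟨e, he⟩ := hl k hk
  exact congrArg CommaMorphism.left (hab _ _ e he)

theorem cancel {E P : Over S} {w : E ⟶ P} (h : Covers w) {Y : Over S} {a b : P ⟶ Y} (hab : w ≫ a = w ≫ b) :
    a = b := by
  refine hom_ext h (𝟙 P) fun Z g e he => ?_
  rw [Category.comp_id] at he
  rw [← he, Category.assoc, Category.assoc, hab]

theorem descend {E P : Over S} {w : E ⟶ P} (h : Covers w) {Y : Over S} (φ : E ⟶ Y)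
    (hinv : ∀ (Z : Over S) (e e' : Z ⟶ E), e ≫ w = e' ≫ w → e ≫ φ = e' ≫ φ) :
    ∃ ψ : P ⟶ Y, w ≫ ψ = φ := by
  obtain ⟨U, hU, hl⟩ := h P (𝟙 P)
  choose e he using hl
  let x : Presieve.FamilyOfElements (yoneda.obj Y.left) (U : Presieve P.left) := fun W k hk =>
    (e k hk ≫ φ).left
  have key : ∀ {W : Scheme.{u}} (k : W ⟶ P.left) (hk : U k) (Z : Over S) (z : Z ⟶ Over.mk (k ≫ P.hom))
      (e' : Z ⟶ E), z.left ≫ k = (e' ≫ w).left → z.left ≫ x k hk = (e' ≫ φ).left := by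
    intro W k hk Z z e' hz
    have := hinv Z (z ≫ e k hk) e' (by
      rw [Category.assoc, he]
      exact Over.OverMorphism.ext (by simpa using hz))
    exact congrArg CommaMorphism.left ((Category.assoc _ _ _).symm.trans this)
  have hx : x.Compatible := by
    intro W₁ W₂ V a₁ a₂ k₁ k₂ h₁ h₂ eq
    show a₁ ≫ x k₁ h₁ = a₂ ≫ x k₂ h₂
    let l₂ : Over.mk (a₁ ≫ k₁ ≫ P.hom) ⟶ Over.mk (k₂ ≫ P.hom) := Over.homMk a₂ (by
      show a₂ ≫ k₂ ≫ P.hom = a₁ ≫ k₁ ≫ P.hom
      simp only [← Category.assoc, eq])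
    refine key k₁ h₁ _ (Over.homMk a₁ rfl) (l₂ ≫ e k₂ h₂) ?_
    rw [Category.assoc, he]
    show a₁ ≫ k₁ = a₂ ≫ (k₂ ≫ 𝟙 P.left)
    rw [Category.comp_id, eq]
  have hsh : Presieve.IsSheafFor (yoneda.obj Y.left) (U : Presieve P.left) :=
    GrothendieckTopology.Subcanonical.isSheaf_of_isRepresentable (J := Scheme.fppfTopology) _ _ hU
  have hshS : Presieve.IsSheafFor (yoneda.obj S) (U : Presieve P.left) :=
    GrothendieckTopology.Subcanonical.isSheaf_of_isRepresentable (J := Scheme.fppfTopology) _ _ hU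
  obtain ⟨y₀, hy₀, -⟩ := hsh x hx
  let y : P ⟶ Y := Over.homMk y₀ (hshS.isSeparatedFor.ext fun W k hk => by
    show k ≫ y₀ ≫ Y.hom = k ≫ P.hom
    rw [← Category.assoc, show k ≫ y₀ = x k hk from hy₀ k hk]
    exact Over.w (e k hk ≫ φ))
  refine ⟨y, ?_⟩
  have hU' : U.pullback w.left ∈ Scheme.fppfTopology E.left := Scheme.fppfTopology.pullback_stable _ hU
  have hshE : Presieve.IsSheafFor (yoneda.obj Y.left) ((U.pullback w.left : Sieve E.left) : Presieve E.left) :=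
    GrothendieckTopology.Subcanonical.isSheaf_of_isRepresentable (J := Scheme.fppfTopology) _ _ hU'
  refine Over.OverMorphism.ext (hshE.isSeparatedFor.ext fun W k hk => ?_)
  show k ≫ w.left ≫ y₀ = k ≫ φ.left
  rw [← Category.assoc, show (k ≫ w.left) ≫ y₀ = x _ hk from hy₀ _ hk]
  let e' : Over.mk ((k ≫ w.left) ≫ P.hom) ⟶ E := Over.homMk k (by
    show k ≫ E.hom = (k ≫ w.left) ≫ P.hom
    rw [Category.assoc, Over.w w])
  have := key (k ≫ w.left) hk _ (𝟙 _) e' (Category.id_comp _)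
  exact (Category.id_comp _).symm.trans this

end Groth.Agent.ExtGrp38
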