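import Mathlib.CategoryTheory.Monoidal.Cartesian.Grp

/-! Extending a group law on a product along a monoidal functor which is bijective on maps into one factor. -/

set_option autoImplicit false
set_option linter.style.haveILetI false

open CategoryTheory CategoryTheory.Limits MonoidalCategory CartesianMonoidalCategory MonObj

namespace Groth.Agent.ExtGrp38

universe v₁ v₂ u₁ u₂

variable {C : Type u₁} [Category.{v₁} C] [CartesianMonoidalCategory C]
  {D : Type u₂} [Category.{v₂} D] [CartesianMonoidalCategory D] (F : C ⥤ D) [F.Monoidal]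

theorem map_prod_ext {G P : C} {W : D} {a b : W ⟶ F.obj (G ⊗ P)}
    (h1 : a ≫ F.map (fst G P) = b ≫ F.map (fst G P)) (h2 : a ≫ F.map (snd G P) = b ≫ F.map (snd G P)) :
    a = b := by
  rw [← cancel_mono (Functor.OplaxMonoidal.δ F G P)]
  refine CartesianMonoidalCategory.hom_ext _ _ ?_ ?_
  · simpa using h1
  · simpa using h2

theorem fst_mul_snd {G : C} [MonObj G] : (μ[G] : G ⊗ G ⟶ G) = fst G G * snd G G := by
  rw [Hom.mul_def, lift_fst_snd, Category.id_comp]

open scoped Obj in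
/-- A group law over the target transported to a product extends when the functor is bijective on maps into the
first factor. -/
theorem exists_extension (Q : C → Prop) (hQt : ∀ X Y, Q X → Q Y → Q (X ⊗ Y)) (hQ1 : Q (𝟙_ C))
    {G P : C} [GrpObj G] [GrpObj P] (hQG : Q G) (hQP : Q P)
    (hbij : ∀ X, Q X → Function.Bijective (fun a : X ⟶ G => F.map a))
    {E' : D} [GrpObj E'] {u' : F.obj G ⟶ E'} {v' : E' ⟶ F.obj P} [IsMonHom u'] [IsMonHom v']
    (φ : F.obj (G ⊗ P) ≅ E') (hv : φ.hom ≫ v' = F.map (snd G P))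
    (hu : F.map (lift (𝟙 G) (1 : G ⟶ P)) ≫ φ.hom = u') :
    ∃ (_ : GrpObj (G ⊗ P)) (u : G ⟶ G ⊗ P) (v : G ⊗ P ⟶ P),
      IsMonHom u ∧ IsMonHom v ∧ u ≫ v = 1 ∧ IsPullback (fst (G ⊗ P) G) (((G ⊗ P) ◁ u) ≫ μ[G ⊗ P]) v v ∧
      v = snd G P ∧ IsMonHom φ.hom ∧ F.map u ≫ φ.hom = u' ∧ φ.hom ≫ v' = F.map v := by
  let E := G ⊗ P
  have hQE : Q E := hQt _ _ hQG hQP
  have hinv : φ.inv ≫ F.map (snd G P) = v' := by rw [← hv, Iso.inv_hom_id_assoc]
  -- components of the group law
  choose pre hpre₀ using fun (X : C) (hX : Q X) => (hbij X hX).2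
  have hpre : ∀ (X : C) (hX : Q X) (b : F.obj X ⟶ F.obj G), F.map (pre X hX b) = b := hpre₀
  let R : ∀ {X : C}, (X ⟶ E) → (F.obj X ⟶ E') := fun a => F.map a ≫ φ.hom
  let m2 : E ⊗ E ⟶ P := (fst E E ≫ snd G P) * (snd E E ≫ snd G P)
  let m' : F.obj (E ⊗ E) ⟶ E' := R (fst E E) * R (snd E E)
  let μE : E ⊗ E ⟶ E := lift (pre _ (hQt _ _ hQE hQE) (m' ≫ φ.inv ≫ F.map (fst G P))) m2
  let ηE : 𝟙_ C ⟶ E := lift (pre _ hQ1 ((1 : F.obj (𝟙_ C) ⟶ E') ≫ φ.inv ≫ F.map (fst G P))) 1
  let ιE : E ⟶ E := lift (pre _ hQE ((R (𝟙 E))⁻¹ ≫ φ.inv ≫ F.map (fst G P))) (snd G P)⁻¹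
  have hm' : m' ≫ v' = F.map m2 := by
    simp only [m', R, m2, MonObj.mul_comp, Category.assoc, hv, Functor.map_mul, Functor.map_comp]
  have hμ : F.map μE = m' ≫ φ.inv := map_prod_ext F
    (by rw [← Functor.map_comp, lift_fst, hpre, Category.assoc])
    (by rw [← Functor.map_comp, lift_snd, Category.assoc, hinv, hm'])
  have hη : F.map ηE = (1 : F.obj (𝟙_ C) ⟶ E') ≫ φ.inv := map_prod_ext F
    (by rw [← Functor.map_comp, lift_fst, hpre, Category.assoc])
    (by rw [← Functor.map_comp, lift_snd, Category.assoc, hinv, MonObj.one_comp, Functor.map_one])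
  have hι : F.map ιE = (R (𝟙 E))⁻¹ ≫ φ.inv := map_prod_ext F
    (by rw [← Functor.map_comp, lift_fst, hpre, Category.assoc])
    (by rw [← Functor.map_comp, lift_snd, Category.assoc, hinv, GrpObj.inv_comp, Functor.map_inv',
          show R (𝟙 E) ≫ v' = F.map (snd G P) by simp [R, hv]])
  -- calculus of the transported law
  have hR2 : ∀ {X : C} (a b : X ⟶ E), R (lift a b ≫ μE) = R a * R b := by
    intro X a b
    show F.map (lift a b ≫ μE) ≫ φ.hom = _
    rw [Functor.map_comp, hμ, Category.assoc, Category.assoc, Iso.inv_hom_id, Category.comp_id]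
    simp only [m', R, MonObj.comp_mul, ← Category.assoc, ← Functor.map_comp, lift_fst, lift_snd]
  have hR1 : ∀ X : C, R (toUnit X ≫ ηE) = 1 := fun X => by
    show F.map (toUnit X ≫ ηE) ≫ φ.hom = _
    rw [Functor.map_comp, hη, Category.assoc, Category.assoc, Iso.inv_hom_id, Category.comp_id, MonObj.comp_one]
  have hRi : ∀ {X : C} (a : X ⟶ E), R (a ≫ ιE) = (R a)⁻¹ := by
    intro X a
    show F.map (a ≫ ιE) ≫ φ.hom = _
    rw [Functor.map_comp, hι, Category.assoc, Category.assoc, Iso.inv_hom_id, Category.comp_id, GrpObj.comp_inv]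
    simp only [R, ← Category.assoc, ← Functor.map_comp, Category.comp_id]
  have hS2 : ∀ {X : C} (a b : X ⟶ E), (lift a b ≫ μE) ≫ snd G P = (a ≫ snd G P) * (b ≫ snd G P) := by
    intro X a b
    rw [Category.assoc, lift_snd, MonObj.comp_mul, lift_fst_assoc, lift_snd_assoc]
  have hS1 : ∀ X : C, (toUnit X ≫ ηE) ≫ snd G P = 1 := fun X => by
    rw [Category.assoc, lift_snd, MonObj.comp_one]
  have hSi : ∀ {X : C} (a : X ⟶ E), (a ≫ ιE) ≫ snd G P = (a ≫ snd G P)⁻¹ := by
    intro X a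
    rw [Category.assoc, lift_snd, GrpObj.comp_inv]
  have hext : ∀ {X : C}, Q X → ∀ {a b : X ⟶ E}, a ≫ snd G P = b ≫ snd G P → R a = R b → a = b := by
    intro X hX a b h2 hR
    refine CartesianMonoidalCategory.hom_ext _ _ ((hbij X hX).1 ?_) h2
    show F.map (a ≫ fst G P) = F.map (b ≫ fst G P)
    rw [Functor.map_comp, Functor.map_comp, (cancel_mono φ.hom).1 hR]
  have hμl : μE = lift (fst E E) (snd E E) ≫ μE := by rw [lift_fst_snd, Category.id_comp]
  letI instE : GrpObj E :=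
  { one := ηE
    mul := μE
    inv := ιE
    one_mul := by
      have h : (ηE ▷ E) ≫ μE = lift (toUnit (𝟙_ C ⊗ E) ≫ ηE) (snd _ E) ≫ μE := by
        congr 1
        refine CartesianMonoidalCategory.hom_ext _ _ ?_ ?_
        · rw [whiskerRight_fst, lift_fst, toUnit_unique (toUnit (𝟙_ C ⊗ E)) (fst (𝟙_ C) E)]
        · rw [whiskerRight_snd, lift_snd]
      rw [h, leftUnitor_hom]
      refine hext (hQt _ _ hQ1 hQE) ?_ ?_
      · rw [hS2, hS1, _root_.one_mul]
      · rw [hR2, hR1, _root_.one_mul]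
    mul_one := by
      have h : (E ◁ ηE) ≫ μE = lift (fst E _) (toUnit (E ⊗ 𝟙_ C) ≫ ηE) ≫ μE := by
        congr 1
        refine CartesianMonoidalCategory.hom_ext _ _ ?_ ?_
        · rw [whiskerLeft_fst, lift_fst]
        · rw [whiskerLeft_snd, lift_snd, toUnit_unique (toUnit (E ⊗ 𝟙_ C)) (snd E (𝟙_ C))]
      rw [h, rightUnitor_hom]
      refine hext (hQt _ _ hQE hQ1) ?_ ?_
      · rw [hS2, hS1, _root_.mul_one]
      · rw [hR2, hR1, _root_.mul_one]
    mul_assoc := by
      have h : (μE ▷ E) ≫ μE = lift (lift (fst _ E ≫ fst E E) (fst _ E ≫ snd E E) ≫ μE) (snd _ E) ≫ μE := by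
        congr 1
        refine CartesianMonoidalCategory.hom_ext _ _ ?_ ?_
        · rw [whiskerRight_fst, lift_fst, ← comp_lift, lift_fst_snd, Category.comp_id]
        · rw [whiskerRight_snd, lift_snd]
      have h' : (α_ E E E).hom ≫ (E ◁ μE) ≫ μE =
          lift (fst _ E ≫ fst E E) (lift (fst _ E ≫ snd E E) (snd _ E) ≫ μE) ≫ μE := by
        rw [← Category.assoc]
        congr 1
        refine CartesianMonoidalCategory.hom_ext _ _ ?_ ?_
        · rw [Category.assoc, whiskerLeft_fst, lift_fst, associator_hom_fst]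
        · rw [Category.assoc, whiskerLeft_snd, lift_snd, ← Category.assoc]
          congr 1
          refine CartesianMonoidalCategory.hom_ext _ _ ?_ ?_
          · rw [lift_fst, Category.assoc, associator_hom_snd_fst]
          · rw [lift_snd, Category.assoc, associator_hom_snd_snd]
      rw [h, h']
      refine hext (hQt _ _ (hQt _ _ hQE hQE) hQE) ?_ ?_
      · rw [hS2, hS2, hS2, hS2, _root_.mul_assoc]
      · rw [hR2, hR2, hR2, hR2, _root_.mul_assoc]
    left_inv := by
      refine hext hQE ?_ ?_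
      · rw [hS2, hS1, ← Category.id_comp ιE, hSi, inv_mul_cancel]
      · rw [hR2, hR1, ← Category.id_comp ιE, hRi, inv_mul_cancel]
    right_inv := by
      refine hext hQE ?_ ?_
      · rw [hS2, hS1, ← Category.id_comp ιE, hSi, mul_inv_cancel]
      · rw [hR2, hR1, ← Category.id_comp ιE, hRi, mul_inv_cancel] }
  have hmul : μ[E] = μE := rfl
  have hone : η[E] = ηE := rfl
  have hvhom : IsMonHom (snd G P : E ⟶ P) := ⟨by
    rw [hone, lift_snd, Hom.one_def, toUnit_unique (toUnit _) (𝟙 _), Category.id_comp], by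
    rw [hmul, fst_mul_snd, MonObj.comp_mul, tensorHom_fst, tensorHom_snd, lift_snd]⟩
  let u : G ⟶ E := lift (𝟙 G) 1
  have huR : ∀ {X : C} (g : X ⟶ G), R (g ≫ u) = F.map g ≫ u' := by
    intro X g
    show F.map (g ≫ u) ≫ φ.hom = _
    rw [Functor.map_comp, Category.assoc, hu]
  have huhom : IsMonHom u := by
    refine ⟨?_, ?_⟩
    · rw [hone]
      refine hext hQ1 ?_ ?_
      · rw [Category.assoc, lift_snd, lift_snd, MonObj.comp_one]
      · rw [huR, show η[G] = toUnit (𝟙_ C) ≫ η[G] by rw [toUnit_unique (toUnit _) (𝟙 _), Category.id_comp],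
          ← Hom.one_def, Functor.map_one, MonObj.one_comp,
          show ηE = toUnit (𝟙_ C) ≫ ηE by rw [toUnit_unique (toUnit _) (𝟙 _), Category.id_comp], hR1]
    · rw [hmul, show (u ⊗ₘ u) ≫ μE = lift (fst G G ≫ u) (snd G G ≫ u) ≫ μE by
        congr 1; ext <;> simp]
      refine hext (hQt _ _ hQG hQG) ?_ ?_
      · rw [hS2, Category.assoc, Category.assoc, Category.assoc, lift_snd, MonObj.comp_one, MonObj.comp_one,
          MonObj.comp_one, _root_.mul_one]
      · rw [hR2, huR, huR, huR, ← MonObj.mul_comp, ← Functor.map_mul, fst_mul_snd]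
  have huv : u ≫ (snd G P : E ⟶ P) = 1 := lift_snd _ _
  have hm : (E ◁ u) ≫ μ[E] = fst E G * (snd E G ≫ u) := by
    rw [Hom.mul_def]
    congr 1
    ext <;> simp
  refine ⟨instE, u, snd G P, huhom, hvhom, huv, ?_, rfl, ?_, hu, hv⟩
  · refine ⟨⟨?_⟩, ⟨PullbackCone.IsLimit.mk _ (fun c => lift c.fst ((c.fst⁻¹ * c.snd) ≫ fst G P))
      (fun c => by simp) (fun c => ?_) (fun c m e1 e2 => ?_)⟩⟩
    · rw [hm, MonObj.mul_comp, Category.assoc, huv, MonObj.comp_one, _root_.mul_one]
    · rw [hm, MonObj.comp_mul, lift_fst, lift_snd_assoc]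
      have : ((c.fst⁻¹ * c.snd) ≫ fst G P) ≫ u = c.fst⁻¹ * c.snd := by
        refine CartesianMonoidalCategory.hom_ext _ _ ?_ ?_
        · rw [Category.assoc, lift_fst, Category.comp_id]
        · rw [Category.assoc, lift_snd, MonObj.comp_one, MonObj.mul_comp, GrpObj.inv_comp, c.condition,
            inv_mul_cancel]
      rw [this, mul_inv_cancel_left]
    · refine CartesianMonoidalCategory.hom_ext _ _ ?_ ?_
      · simpa using e1
      · rw [lift_snd]
        have e2' : c.fst * ((m ≫ snd E G) ≫ u) = c.snd := by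
          rw [← e2, hm, MonObj.comp_mul, e1, Category.assoc]
        rw [← e2', inv_mul_cancel_left, Category.assoc, lift_fst, Category.comp_id]
  · refine ⟨?_, ?_⟩
    · rw [Functor.obj.η_def, hone, hη, Category.assoc, Category.assoc, Iso.inv_hom_id, Category.comp_id,
        MonObj.comp_one, Hom.one_def, toUnit_unique (toUnit _) (𝟙 _), Category.id_comp]
    · rw [Functor.obj.μ_def, hmul, hμ, Category.assoc, Category.assoc, Iso.inv_hom_id, Category.comp_id,
        fst_mul_snd, MonObj.comp_mul, MonObj.comp_mul, tensorHom_fst, tensorHom_snd]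
      rw [Functor.Monoidal.μ_fst_assoc, Functor.Monoidal.μ_snd_assoc]

end Groth.Agent.ExtGrp38
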